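import Mathlib.CategoryTheory.Action.Continuous
import Mathlib.CategoryTheory.Action.Concrete
import Mathlib.CategoryTheory.Galois.Topology
import Mathlib.Topology.Category.FinTopCat
import Mathlib.Topology.Algebra.Group.Basic
import Mathlib.Topology.LocallyConstant.Basic
import Mathlib.GroupTheory.QuotientGroup.Basic

/-!
# The automorphism group of the forgetful functor on finite continuous `G`-sets
-/

universe u

open CategoryTheory

open scoped FintypeCatDiscrete
open PreGaloisCategory

namespace Groth.L27.FinGSet

variable (G : Type u) [Group G] [TopologicalSpace G]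

/-- the forgetful functor -/
noncomputable abbrev Fc : ContAction FintypeCat.{u} G ⥤ FintypeCat.{u} :=
  forget₂ (ContAction FintypeCat.{u} G) FintypeCat.{u}

/-- `g` acting on every finite continuous `G`-set -/
noncomputable def iota : G →* Aut (Fc G) where
  toFun g := NatIso.ofComponents (fun X => Action.ρAut X.obj g) fun f => (f.hom.comm g).symm
  map_one' := Iso.ext (NatTrans.ext (funext fun X => congrArg Iso.hom (map_one (Action.ρAut X.obj))))
  map_mul' g h := Iso.ext (NatTrans.ext (funext fun X => congrArg Iso.hom (map_mul (Action.ρAut X.obj) g h)))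

variable {G}

theorem iota_apply (g : G) (X : ContAction FintypeCat.{u} G) (x : X.obj.V) :
    (iota G g).hom.app X x = (X.obj.ρ g).hom x := rfl

theorem aut_ext {A : FintypeCat.{u}} {a b : Aut A} (h : ∀ x, a.hom x = b.hom x) : a = b :=
  Iso.ext (FintypeCat.hom_ext _ _ h)

theorem continuous_orbit (X : ContAction FintypeCat.{u} G) (x : X.obj.V) :
    Continuous fun g : G => (X.obj.ρ g).hom x :=
  ((Action.isContinuous_def X.obj).1 X.property).comp (continuous_id.prodMk continuous_const)

theorem isLocallyConstant_ρAut (X : ContAction FintypeCat.{u} G) :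
    IsLocallyConstant fun g : G => Action.ρAut X.obj g := by
  refine IsLocallyConstant.iff_isOpen_fiber.2 fun τ => ?_
  have : (fun g : G => Action.ρAut X.obj g) ⁻¹' {τ} = ⋂ x : X.obj.V, (fun g : G => (X.obj.ρ g).hom x) ⁻¹' {τ.hom x} := by
    ext g
    simp only [Set.mem_preimage, Set.mem_singleton_iff, Set.mem_iInter]
    exact ⟨fun h x => h ▸ rfl, fun h => aut_ext h⟩
  rw [this]
  exact isOpen_iInter_of_finite fun x => (isOpen_discrete _).preimage (continuous_orbit X x)

theorem continuous_iota : Continuous (iota G) := by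
  refine continuous_induced_rng.2 (continuous_pi fun X => ?_)
  letI : TopologicalSpace (Aut X.obj.V) := ⊥
  exact (isLocallyConstant_ρAut X).continuous

section Reg

variable {Q : Type u} [Group Q] [Finite Q] [TopologicalSpace Q] [DiscreteTopology Q] (π : G →* Q)
  (hπ : Continuous π)

/-- a finite quotient as a `G`-set -/
noncomputable def regAct : Action FintypeCat.{u} G where
  V := FintypeCat.of Q
  ρ := { toFun := fun g => FintypeCat.homMk fun q => π g * q
         map_one' := FintypeCat.hom_ext _ _ fun q => by
          show π 1 * q = q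
          rw [map_one, one_mul]
         map_mul' := fun g h => FintypeCat.hom_ext _ _ fun q => by
          show π (g * h) * q = π g * (π h * q)
          rw [map_mul, mul_assoc] }

/-- a finite quotient as a continuous `G`-set -/
noncomputable def reg : ContAction FintypeCat.{u} G :=
  ⟨regAct π, (Action.isContinuous_def _).2
    (Continuous.comp (g := fun a : Q × (regAct π).V => (id (HMul.hMul (α := Q) (β := Q) (γ := Q) a.1 a.2) : (regAct π).V))
      (continuous_of_discreteTopology) (hπ.prodMap continuous_id))⟩

/-- the action of an automorphism on a finite quotient -/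
noncomputable def ev (σ : Aut (Fc G)) (q : Q) : Q := σ.hom.app (reg π hπ) q

theorem app_reg (σ : Aut (Fc G)) (a q : Q) : ev π hπ σ (q * a) = ev π hπ σ q * a :=
  (NatTrans.naturality_apply σ.hom (ObjectProperty.homMk
    ({ hom := FintypeCat.homMk fun x : Q => x * a
       comm := fun g => FintypeCat.hom_ext _ _ fun x => mul_assoc (π g) x a } : Action.Hom (regAct π) (regAct π)) :
      reg π hπ ⟶ reg π hπ) q)

/-- evaluation at the neutral element -/
noncomputable def psi : Aut (Fc G) →* Q where
  toFun σ := ev π hπ σ 1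
  map_one' := rfl
  map_mul' σ τ := by
    show ev π hπ σ (ev π hπ τ 1) = _
    conv_lhs => rw [← one_mul (ev π hπ τ 1)]
    exact app_reg π hπ σ _ 1

theorem continuous_psi : Continuous (psi π hπ) := by
  letI : TopologicalSpace (Aut ((Fc G).obj (reg π hπ))) := ⊥
  haveI : DiscreteTopology (Aut ((Fc G).obj (reg π hπ))) := ⟨rfl⟩
  have h : Continuous fun σ : Aut (Fc G) => autEmbedding (Fc G) σ (reg π hπ) :=
    (continuous_apply (reg π hπ)).comp continuous_induced_dom
  exact (continuous_of_discreteTopology (f := fun a : Aut ((Fc G).obj (reg π hπ)) => (id (a.hom (1 : Q)) : Q))).comp h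

theorem psi_iota (g : G) : psi π hπ (iota G g) = π g := mul_one _

end Reg

set_option maxHeartbeats 800000 in
theorem denseRange_iota : DenseRange (iota G) := by
  refine dense_iff_inter_open.2 fun O hO ⟨σ, hσ⟩ => ?_
  obtain ⟨W, hW, rfl⟩ := isOpen_induced_iff.1 hO
  obtain ⟨I, s, hs, hIW⟩ := isOpen_pi_iff.1 hW _ hσ
  letI : ∀ X : ContAction FintypeCat.{u} G, TopologicalSpace (Aut X.obj.V) := fun _ => ⊥
  haveI : ∀ X : ContAction FintypeCat.{u} G, DiscreteTopology (Aut X.obj.V) := fun _ => ⟨rfl⟩
  haveI : ∀ X : ContAction FintypeCat.{u} G, Finite (Aut X.obj.V) := fun X =>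
    Finite.of_injective (fun a : Aut X.obj.V => (fun x => a.hom x : X.obj.V → X.obj.V))
      fun a b h => aut_ext (congrFun h)
  let P : G →* ∀ X : ↥I, Aut X.1.obj.V := Pi.monoidHom fun X => Action.ρAut X.1.obj
  have hP : Continuous P := continuous_pi fun X => (isLocallyConstant_ρAut X.1).continuous
  haveI : Finite (G ⧸ P.ker) := Finite.of_injective _ (QuotientGroup.kerLift_injective P)
  letI : TopologicalSpace (G ⧸ P.ker) := ⊥
  haveI : DiscreteTopology (G ⧸ P.ker) := ⟨rfl⟩
  let π : G →* G ⧸ P.ker := QuotientGroup.mk' P.ker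
  have hπ : Continuous π := continuous_discrete_rng.2 fun q => by
    obtain ⟨g₀, rfl⟩ := QuotientGroup.mk'_surjective P.ker q
    have : π ⁻¹' {π g₀} = P ⁻¹' {P g₀} := by
      ext g
      exact QuotientGroup.eq.trans (MonoidHom.mem_ker.trans (by rw [map_mul, map_inv, inv_mul_eq_one]; rfl))
    rw [this]
    exact (isOpen_discrete _).preimage hP
  let q₀ : G ⧸ P.ker := σ.hom.app (reg π hπ) (1 : G ⧸ P.ker)
  obtain ⟨g, hg⟩ := QuotientGroup.mk'_surjective P.ker q₀
  refine ⟨iota G g, hIW fun X hX => ?_, ⟨g, rfl⟩⟩
  have key : σ.app X = Action.ρAut X.obj g := by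
    refine aut_ext fun x => ?_
    let f : reg π hπ ⟶ X := ObjectProperty.homMk
      ({ hom := FintypeCat.homMk fun q : G ⧸ P.ker => (QuotientGroup.kerLift P q ⟨X, hX⟩).hom x
         comm := fun h => FintypeCat.hom_ext _ _ fun q => by
          obtain ⟨k, rfl⟩ := QuotientGroup.mk'_surjective P.ker q
          exact congrArg (fun a : Aut X.obj.V => a.hom x) (map_mul (Action.ρAut X.obj) h k) } :
        Action.Hom (regAct π) X.obj)
    have h := NatTrans.naturality_apply σ.hom f (1 : G ⧸ P.ker)
    refine (congrArg (σ.hom.app X) ?_).trans (h.trans (congrArg (fun q : G ⧸ P.ker => (QuotientGroup.kerLift P q ⟨X, hX⟩).hom x) hg.symm))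
    exact (congrArg (fun a : ∀ Y : ↥I, Aut Y.1.obj.V => (a ⟨X, hX⟩).hom x) (map_one (QuotientGroup.kerLift P))).symm
  have := (hs X hX).2
  rw [show PreGaloisCategory.autEmbedding (Fc G) σ X = PreGaloisCategory.autEmbedding (Fc G) (iota G g) X from
    key] at this
  exact this

end Groth.L27.FinGSet
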