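import Groth.Agent.L27.FinGSet.Cont
import Mathlib.Topology.Algebra.Category.ProfiniteGrp.Completion
import Mathlib.CategoryTheory.Galois.Examples
import Mathlib.Topology.Algebra.ContinuousMonoidHom

/-!
# The profinite completion as automorphisms of the forgetful functor on finite `G`-sets
-/

universe u

open CategoryTheory PreGaloisCategory ProfiniteGrp

open scoped FintypeCatDiscrete

namespace Groth.L27.FinGSet

variable (G : Type u) [Group G]

/-- the forgetful functor -/
noncomputable abbrev Fd : Action FintypeCat.{u} G ⥤ FintypeCat.{u} := Action.forget FintypeCat.{u} G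

/-- `g` acting on every finite `G`-set -/
noncomputable def iotaD (g : G) : Aut (Fd G) :=
  NatIso.ofComponents (fun X => Action.ρAut X g) fun f => (f.comm g).symm

section

variable [TopologicalSpace G]

/-- restriction to continuous actions -/
noncomputable def restrCont : Aut (Fd G) →* Aut (Fc G) where
  toFun σ := NatIso.ofComponents (fun X => σ.app X.obj) fun f => σ.hom.naturality f.hom
  map_one' := rfl
  map_mul' _ _ := rfl

theorem continuous_restrCont : Continuous (restrCont G) :=
  continuous_induced_rng.2 (continuous_pi fun X =>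
    ((continuous_apply X.obj).comp continuous_induced_dom :
      Continuous fun σ : Aut (Fd G) => autEmbedding (Fd G) σ X.obj))

end

variable {G}

/-- the components of the comparison with the profinite completion -/
noncomputable def comp (H : FiniteIndexNormalSubgroup (GrpCat.of G)) :
    Aut (Fd G) →* G ⧸ (H.toSubgroup : Subgroup G) :=
  letI : TopologicalSpace G := ⊥
  letI : TopologicalSpace (G ⧸ (H.toSubgroup : Subgroup G)) := ⊥
  haveI : DiscreteTopology G := ⟨rfl⟩
  haveI : DiscreteTopology (G ⧸ (H.toSubgroup : Subgroup G)) := ⟨rfl⟩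
  (psi (QuotientGroup.mk' (H.toSubgroup : Subgroup G)) continuous_of_discreteTopology).comp (restrCont G)

theorem comp_apply (H : FiniteIndexNormalSubgroup (GrpCat.of G)) (σ : Aut (Fd G)) :
    comp H σ = σ.hom.app (regAct (QuotientGroup.mk' (H.toSubgroup : Subgroup G)))
      (1 : G ⧸ (H.toSubgroup : Subgroup G)) := rfl

theorem comp_compat {H K : FiniteIndexNormalSubgroup (GrpCat.of G)} (h : H.toSubgroup ≤ K.toSubgroup)
    (σ : Aut (Fd G)) :
    QuotientGroup.map H.toSubgroup K.toSubgroup (MonoidHom.id G) h (comp H σ) = comp K σ := by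
  let m := QuotientGroup.map H.toSubgroup K.toSubgroup (MonoidHom.id G) h
  let f : regAct (QuotientGroup.mk' (H.toSubgroup : Subgroup G)) ⟶
      regAct (QuotientGroup.mk' (K.toSubgroup : Subgroup G)) :=
    { hom := FintypeCat.homMk m
      comm := fun g => FintypeCat.hom_ext _ _ fun q => map_mul m (QuotientGroup.mk g) q }
  have e := NatTrans.naturality_apply σ.hom f (1 : G ⧸ (H.toSubgroup : Subgroup G))
  exact e.symm.trans (congrArg (σ.hom.app _) (map_one m))

theorem comp_iotaD (H : FiniteIndexNormalSubgroup (GrpCat.of G)) (g : G) :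
    comp H (iotaD G g) = QuotientGroup.mk g := mul_one (QuotientGroup.mk g : G ⧸ (H.toSubgroup : Subgroup G))

/-- the comparison with the profinite completion -/
noncomputable def toCompletion : Aut (Fd G) →* ProfiniteCompletion.completion (GrpCat.of G) where
  toFun σ := ⟨fun H => comp H σ, fun {H K} f => comp_compat (leOfHom f) σ⟩
  map_one' := Subtype.ext (funext fun H => map_one (comp H))
  map_mul' σ τ := Subtype.ext (funext fun H => map_mul (comp H) σ τ)

theorem continuous_toCompletion : Continuous (toCompletion (G := G)) := by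
  letI : TopologicalSpace G := ⊥
  haveI : DiscreteTopology G := ⟨rfl⟩
  refine Continuous.subtype_mk (continuous_pi fun H => ?_) _
  letI : TopologicalSpace (G ⧸ (H.toSubgroup : Subgroup G)) := ⊥
  haveI : DiscreteTopology (G ⧸ (H.toSubgroup : Subgroup G)) := ⟨rfl⟩
  exact (continuous_psi (QuotientGroup.mk' (H.toSubgroup : Subgroup G)) continuous_of_discreteTopology).comp
    (continuous_restrCont G)

theorem injective_toCompletion : Function.Injective (toCompletion (G := G)) := by
  intro σ τ h
  refine autEmbedding_injective (Fd G) (funext fun X => aut_ext fun x => ?_)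
  haveI : Finite (Aut X.V) :=
    Finite.of_injective (fun a : Aut X.V => (fun y => a.hom y : X.V → X.V)) fun a b h => aut_ext (congrFun h)
  let ρ : G →* Aut X.V := Action.ρAut X
  haveI : Finite (G ⧸ ρ.ker) := Finite.of_injective _ (QuotientGroup.kerLift_injective ρ)
  haveI : ρ.ker.FiniteIndex := Subgroup.finiteIndex_of_finite_quotient
  let H : FiniteIndexNormalSubgroup (GrpCat.of G) := { toSubgroup := ρ.ker }
  have hH : comp H σ = comp H τ := congrFun (congrArg Subtype.val h) H
  let f : regAct (QuotientGroup.mk' ρ.ker) ⟶ X :=
    { hom := FintypeCat.homMk fun q : G ⧸ ρ.ker => (QuotientGroup.kerLift ρ q).hom x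
      comm := fun g => FintypeCat.hom_ext _ _ fun q => by
        obtain ⟨k, rfl⟩ := QuotientGroup.mk'_surjective ρ.ker q
        exact congrArg (fun a : Aut X.V => a.hom x) (map_mul ρ g k) }
  have key : ∀ υ : Aut (Fd G), υ.hom.app X x = (QuotientGroup.kerLift ρ (comp H υ)).hom x := fun υ => by
    have e := NatTrans.naturality_apply υ.hom f (1 : G ⧸ ρ.ker)
    refine Eq.trans ?_ e
    exact congrArg (υ.hom.app X) (congrArg (fun a : Aut X.V => a.hom x) (map_one (QuotientGroup.kerLift ρ))).symm
  exact (key σ).trans ((congrArg (fun q => (QuotientGroup.kerLift ρ q).hom x) hH).trans (key τ).symm)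

theorem toCompletion_iotaD (g : G) :
    toCompletion (iotaD G g) = ProfiniteCompletion.etaFn (GrpCat.of G) g :=
  Subtype.ext (funext fun H => comp_iotaD H g)

theorem surjective_toCompletion : Function.Surjective (toCompletion (G := G)) := by
  have hc : IsClosed (Set.range (toCompletion (G := G))) :=
    (isCompact_range continuous_toCompletion).isClosed
  refine Set.range_eq_univ.1 (hc.closure_eq.symm.trans
    ((ProfiniteCompletion.denseRange (GrpCat.of G)).mono ?_).closure_eq)
  rintro _ ⟨g, rfl⟩
  exact ⟨iotaD G g, toCompletion_iotaD g⟩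

end Groth.L27.FinGSet
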